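import Mathlib.Topology.Instances.AddCircle.Defs
import Mathlib.Analysis.SpecialFunctions.Complex.Circle
import Mathlib.Analysis.Fourier.FiniteAbelian.Orthogonality
import Mathlib.GroupTheory.FiniteAbelian.Basic
import Mathlib.GroupTheory.Torsion
import Mathlib.Topology.Order

/-!
# Homomorphisms of a finite abelian group into `ℚ/ℤ`
-/

set_option autoImplicit false
universe u v

namespace K985.PontDual

/-- The inclusion of `ℚ/ℤ` in `ℝ/ℤ`. -/
noncomputable def ratToReal : AddCircle (1 : ℚ) →+ AddCircle (1 : ℝ) :=
  QuotientAddGroup.map _ _ (Rat.castHom ℝ).toAddMonoidHom (by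
    intro q hq
    obtain ⟨n, hn⟩ := AddSubgroup.mem_zmultiples_iff.1 hq
    rw [AddSubgroup.mem_comap, AddSubgroup.mem_zmultiples_iff]
    refine ⟨n, ?_⟩
    rw [← hn]
    simp)

theorem ratToReal_injective : Function.Injective ratToReal := by
  rw [injective_iff_map_eq_zero]
  intro x hx
  induction x using QuotientAddGroup.induction_on with
  | H q =>
    have h1 : ((q : ℝ) : AddCircle (1 : ℝ)) = 0 := hx
    rw [QuotientAddGroup.eq_zero_iff, AddSubgroup.mem_zmultiples_iff] at h1
    obtain ⟨n, hn⟩ := h1
    rw [QuotientAddGroup.eq_zero_iff, AddSubgroup.mem_zmultiples_iff]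
    refine ⟨n, ?_⟩
    have : (n : ℝ) = (q : ℝ) := by simpa using hn
    have h2 : (n : ℚ) = q := by exact_mod_cast this
    simpa using h2

/-- The complex character of a homomorphism to `ℚ/ℤ`. -/
noncomputable def toChar {X : Type*} [AddCommGroup X] (φ : X →+ AddCircle (1 : ℚ)) : AddChar X ℂ where
  toFun x := ((AddCircle.toCircle (ratToReal (φ x)) : Circle) : ℂ)
  map_zero_eq_one' := by simp
  map_add_eq_mul' x y := by
    rw [map_add, map_add, AddCircle.toCircle_add]
    rfl

theorem toChar_injective {X : Type*} [AddCommGroup X] :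
    Function.Injective (toChar : (X →+ AddCircle (1 : ℚ)) → AddChar X ℂ) := by
  intro φ ψ h
  ext x
  apply ratToReal_injective
  apply AddCircle.injective_toCircle one_ne_zero
  apply Subtype.ext
  exact congrArg (fun f : AddChar X ℂ => f x) h

theorem finite_hom (X : Type*) [AddCommGroup X] [Finite X] : Finite (X →+ AddCircle (1 : ℚ)) :=
  Finite.of_injective _ toChar_injective

theorem card_hom_le (X : Type*) [AddCommGroup X] [Finite X] :
    Nat.card (X →+ AddCircle (1 : ℚ)) ≤ Nat.card X := by
  classical
  have : Fintype X := Fintype.ofFinite X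
  refine (Nat.card_le_card_of_injective _ (toChar_injective (X := X))).trans ?_
  rw [Nat.card_eq_fintype_card, Nat.card_eq_fintype_card]
  exact AddChar.card_addChar_le X ℂ

/-- A finite group of characters of `G` contains every character vanishing on its common kernel. -/
theorem exists_of_finite {G H : Type*} [AddCommGroup G] [AddCommGroup H] [Finite H]
    (β : H →+ (G →+ AddCircle (1 : ℚ))) (hβ : Function.Injective β) (χ : G →+ AddCircle (1 : ℚ))
    (hχ : ∀ x : G, (∀ h : H, β h x = 0) → χ x = 0) : ∃ h : H, β h = χ := by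
  -- the evaluation map G → Hom(H, Q/Z)
  let ev : G →+ (H →+ AddCircle (1 : ℚ)) := β.flip
  have hev : ∀ x h, ev x h = β h x := fun x h => rfl
  let Q := G ⧸ ev.ker
  have hfinD : Finite (H →+ AddCircle (1 : ℚ)) := finite_hom H
  let ev' : Q →+ (H →+ AddCircle (1 : ℚ)) := QuotientAddGroup.kerLift ev
  have hev' : Function.Injective ev' := QuotientAddGroup.kerLift_injective ev
  have hfinQ : Finite Q := Finite.of_injective _ hev'
  -- the map H → Hom(Q, Q/Z)
  have hker : ∀ h : H, ev.ker ≤ (β h).ker := by
    intro h x hx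
    have h1 : ev x = 0 := hx
    rw [AddMonoidHom.mem_ker, ← hev, h1]
    rfl
  let D : H → (Q →+ AddCircle (1 : ℚ)) := fun h => QuotientAddGroup.lift ev.ker (β h) (hker h)
  have hD : Function.Injective D := by
    intro h h' hh
    apply hβ
    ext x
    have := congrArg (fun f : Q →+ AddCircle (1 : ℚ) => f (QuotientAddGroup.mk x)) hh
    exact this
  have hfinDQ : Finite (Q →+ AddCircle (1 : ℚ)) := finite_hom Q
  have hcard : Nat.card (Q →+ AddCircle (1 : ℚ)) ≤ Nat.card H := by
    refine (card_hom_le Q).trans ((Nat.card_le_card_of_injective _ hev').trans (card_hom_le H))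
  have hbij : Function.Bijective D := by
    have h1 : Nat.card H = Nat.card (Q →+ AddCircle (1 : ℚ)) :=
      le_antisymm (Nat.card_le_card_of_injective _ hD) hcard
    exact (Nat.bijective_iff_injective_and_card D).2 ⟨hD, h1⟩
  have hχker : ev.ker ≤ χ.ker := by
    intro x hx
    have h1 : ev x = 0 := hx
    apply hχ
    intro h
    rw [← hev, h1]
    rfl
  obtain ⟨h, hh⟩ := hbij.2 (QuotientAddGroup.lift ev.ker χ hχker)
  refine ⟨h, ?_⟩
  ext x
  exact congrArg (fun f : Q →+ AddCircle (1 : ℚ) => f (QuotientAddGroup.mk x)) hh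

end K985.PontDual
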